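import Cfsg.Agent.FC.Cnt
import Cfsg.Agent.Spor.ModelA7

set_option autoImplicit false
set_option Elab.async false
set_option maxRecDepth 4096

namespace Cfsg.Agent.FC.CA7

open Cfsg.Agent.Comp

noncomputable def ns_9 : Net :=
 (Net.cons (nat_lit 4) 8
 (Net.cons (nat_lit 2) 50
 (Net.cons (nat_lit 1) 20
 (Net.cons (nat_lit 2) 34
 (Net.cons (nat_lit 4) 10
 Net.nil)))))

noncomputable def ns_10 : Net :=
 (Net.cons (nat_lit 4) 12
 (Net.cons (nat_lit 2) 16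
 (Net.cons (nat_lit 1) 64
 (Net.cons (nat_lit 4) 12
 Net.nil))))

noncomputable def ns_11 : Net :=
 (Net.cons (nat_lit 4) 10
 (Net.cons (nat_lit 2) 50
 (Net.cons (nat_lit 1) 20
 (Net.cons (nat_lit 2) 34
 (Net.cons (nat_lit 4) 14
 Net.nil)))))

noncomputable def ns_12 : Net :=
 (Net.cons (nat_lit 4) 8
 (Net.cons (nat_lit 2) 32
 (Net.cons (nat_lit 1) 16
 (Net.cons (nat_lit 4) 8
 Net.nil))))

noncomputable def ns_13 : Net :=
 (Net.cons (nat_lit 2) 48
 (Net.cons (nat_lit 1) 64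
 (Net.cons (nat_lit 2) 32
 Net.nil)))

noncomputable def ns : List Net := [Spor.ModelA7.ns_0, Spor.ModelA7.ns_1, Spor.ModelA7.ns_2, Spor.ModelA7.ns_3, Spor.ModelA7.ns_4, Spor.ModelA7.ns_5, Spor.ModelA7.ns_6, Spor.ModelA7.ns_7, Spor.ModelA7.ns_8, ns_9, ns_10, ns_11, ns_12, ns_13]

theorem ctx : Ctx 8 3 ns := ctx_of (by decide +kernel)

theorem lctx : LCtx 8 3 4 7 trN3 ns := lctx_of ctx trOK3 (by decide +kernel)

noncomputable def E : List ℕ → ℕ → ℕ := pfW0 8 3 4 7 trN3 ns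

theorem hE : Evl 8 ns E := evl_pfW0 lctx

theorem geq : gen Spor.ModelA7.ns Spor.ModelA7.G_ss0 = gen ns [[0], [2]] :=
  gen_eq_of_take (ns := Spor.ModelA7.ns) (ns' := ns) (k := 9) rfl (ws := Spor.ModelA7.G_ss0) (by decide +kernel)

theorem hn : Nat.card (gen ns [[0], [2]]) = 2520 :=
  geq ▸ Spor.ModelA7.G_card

theorem kn_0 : Known ns (gen ns [[0], [2]]) 3 :=
  known_gen (by decide +kernel)

noncomputable def A_S5 : List SD :=
  []

noncomputable def A_d4 : SD :=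
  ⟨4, 2, [26], lab 1 1 32, 1⟩

noncomputable def A_S4 : List SD :=
  A_d4 :: A_S5

noncomputable def A_d3 : SD :=
  ⟨3, 1, [12, 24, 26], lab 3 7 69632, 1⟩

noncomputable def A_S3 : List SD :=
  A_d3 :: A_S4

noncomputable def A_d2 : SD :=
  ⟨2, 1, [20, 22, 12, 24, 26], lab 4 15 (nat_lit 0x2310000), 2⟩

noncomputable def A_S2 : List SD :=
  A_d2 :: A_S3

noncomputable def A_d1 : SD :=
  ⟨1, 1, [4, 18, 20, 22, 12, 24, 26], lab 4 15 (nat_lit 0x1200300), 2⟩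

noncomputable def A_S1 : List SD :=
  A_d1 :: A_S2

noncomputable def A_d0 : SD :=
  ⟨0, 1, [0, 2, 4, 18, 20, 22, 12, 24, 26], lab 5 31 (nat_lit 0x14c920400), 2⟩

noncomputable def A_S0 : List SD :=
  A_d0 :: A_S1

theorem kn_1 : Known ns (gen ns [[0], [2]]) 15943 :=
  kn_0.steps ctx (es := [(2, [0, 0, 2, 0]),
 (9, [0, 3, 3, 3, 3, 1, 3, 0, 3, 3, 0]),
 (10, [4, 18, 4]),
 (11, [19, 19, 5, 18, 5, 5]),
 (6, [20, 22, 20, 22, 21, 22, 22]),
 (12, [20, 23, 20, 23, 21, 23, 23, 21, 22]),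
 (13, [25, 12, 25, 12, 25, 25, 12])]) (by decide +kernel)

theorem A_ex : Exact 8 ns A_S0 ∧ gen ns (sTop A_S0) = gen ns [[0], [2]] ∧ gen ns [[0], [2]] = gen ns [[0], [2]] :=
  exact_of_known ctx hn (le_rfl) kn_1 (by decide +kernel)

noncomputable def A_T5 : List ETr :=
  []

noncomputable def A_t4 : ETr :=
  (.node 26 .nil (.node 27 .nil .nil))

noncomputable def A_T4 : List ETr :=
  A_t4 :: A_T5

noncomputable def A_t3 : ETr :=
  (.node 12 .nil (.node 13 .nil (.node 25 .nil .nil)))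

noncomputable def A_T3 : List ETr :=
  A_t3 :: A_T4

noncomputable def A_t2 : ETr :=
  (.node 20 (.node 12 .nil .nil) (.node 21 .nil (.node 22 .nil .nil)))

noncomputable def A_T2 : List ETr :=
  A_t2 :: A_T3

noncomputable def A_t1 : ETr :=
  (.node 4 (.node 19 .nil .nil) (.node 5 .nil (.node 18 .nil (.node 19 .nil .nil))))

noncomputable def A_T1 : List ETr :=
  A_t1 :: A_T2

noncomputable def A_t0 : ETr :=
  (.node 0 (.node 2 .nil (.node 3 .nil (.node 18 .nil (.node 20 .nil .nil)))) (.node 1 .nil .nil))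

noncomputable def A_T0 : List ETr :=
  A_t0 :: A_T1

theorem A_tr0 : chkTrees ns A_S0 A_T0 = true :=
  by decide +kernel

theorem A_tr1 : chkTrees ns A_S1 A_T1 = true :=
  by decide +kernel

theorem A_tr2 : chkTrees ns A_S2 A_T2 = true :=
  by decide +kernel

theorem A_tr3 : chkTrees ns A_S3 A_T3 = true :=
  by decide +kernel

theorem A_tr4 : chkTrees ns A_S4 A_T4 = true :=
  by decide +kernel

theorem A_ex0 : Exact 8 ns A_S0 :=
  A_ex.1

theorem A_ex1 : Exact 8 ns A_S1 :=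
  A_ex0.tail

theorem A_ex2 : Exact 8 ns A_S2 :=
  A_ex1.tail

theorem A_ex3 : Exact 8 ns A_S3 :=
  A_ex2.tail

theorem A_ex4 : Exact 8 ns A_S4 :=
  A_ex3.tail

theorem A_ex5 : Exact 8 ns A_S5 :=
  A_ex4.tail

theorem A_le0 : gen ns (sTop A_S0) ≤ gen ns (sTop A_S0) :=
  le_rfl

theorem A_le1 : gen ns (sTop A_S1) ≤ gen ns (sTop A_S0) :=
  A_ex0.stab.le.trans A_le0

theorem A_le2 : gen ns (sTop A_S2) ≤ gen ns (sTop A_S0) :=
  A_ex1.stab.le.trans A_le1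

theorem A_le3 : gen ns (sTop A_S3) ≤ gen ns (sTop A_S0) :=
  A_ex2.stab.le.trans A_le2

theorem A_le4 : gen ns (sTop A_S4) ≤ gen ns (sTop A_S0) :=
  A_ex3.stab.le.trans A_le3

theorem A_le5 : gen ns (sTop A_S5) ≤ gen ns (sTop A_S0) :=
  A_ex4.stab.le.trans A_le4

theorem fp : FP (gen ns [[0], [2]]) :=
  fp_of_hist lctx A_ex0 A_tr0 A_ex.2.1 hn (L := 13) (by decide +kernel)

end Cfsg.Agent.FC.CA7
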