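import Cfsg.Agent.Comp.MatClass
import Cfsg.Agent.Comp.SepSub
import Cfsg.Agent.Class.LinearBasic

set_option autoImplicit false
set_option maxRecDepth 4096

namespace Cfsg.Agent.FC.ModelL33

open Cfsg.Agent.Comp

noncomputable def ns_0 : Net :=
 (Net.cons (nat_lit 8) 101
 (Net.cons (nat_lit 4) 519
 (Net.cons (nat_lit 2) 8498
 (Net.cons (nat_lit 1) 16705
 (Net.cons (nat_lit 2) 8226
 (Net.cons (nat_lit 4) 6
 (Net.cons (nat_lit 8) 126
 Net.nil)))))))

noncomputable def ns_1 : Net :=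
 (Net.cons (nat_lit 8) 123
 (Net.cons (nat_lit 4) 3082
 (Net.cons (nat_lit 2) 8739
 (Net.cons (nat_lit 1) 1025
 (Net.cons (nat_lit 2) 514
 (Net.cons (nat_lit 4) 3082
 (Net.cons (nat_lit 8) 104
 Net.nil)))))))

noncomputable def ns_2 : Net :=
 (Net.cons (nat_lit 8) 218
 (Net.cons (nat_lit 4) 3338
 (Net.cons (nat_lit 2) 8226
 (Net.cons (nat_lit 1) 5140
 (Net.cons (nat_lit 2) 8706
 (Net.cons (nat_lit 4) 3082
 (Net.cons (nat_lit 8) 192
 Net.nil)))))))

noncomputable def ns_3 : Net :=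
 (Net.cons (nat_lit 8) 202
 (Net.cons (nat_lit 4) 2830
 (Net.cons (nat_lit 2) 12304
 (Net.cons (nat_lit 1) 4112
 (Net.cons (nat_lit 2) 32
 (Net.cons (nat_lit 4) 1548
 (Net.cons (nat_lit 8) 192
 Net.nil)))))))

noncomputable def ns_4 : Net :=
 (Net.cons (nat_lit 8) 166
 (Net.cons (nat_lit 4) 2822
 (Net.cons (nat_lit 2) 8240
 (Net.cons (nat_lit 1) 5444
 (Net.cons (nat_lit 2) 8224
 (Net.cons (nat_lit 4) 518
 (Net.cons (nat_lit 8) 166
 Net.nil)))))))

noncomputable def ns_5 : Net :=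
 (Net.cons (nat_lit 8) 164
 (Net.cons (nat_lit 4) 1288
 (Net.cons (nat_lit 2) 12288
 (Net.cons (nat_lit 1) 20800
 (Net.cons (nat_lit 2) 512
 (Net.cons (nat_lit 4) 1032
 (Net.cons (nat_lit 8) 176
 Net.nil)))))))

noncomputable def ns_6 : Net :=
 (Net.cons (nat_lit 8) 176
 (Net.cons (nat_lit 4) 3080
 (Net.cons (nat_lit 2) 12800
 (Net.cons (nat_lit 1) 20544
 (Net.cons (nat_lit 4) 3080
 (Net.cons (nat_lit 8) 176
 Net.nil))))))

noncomputable def ns_7 : Net :=
 (Net.cons (nat_lit 8) 130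
 (Net.cons (nat_lit 4) 2314
 (Net.cons (nat_lit 1) 80
 (Net.cons (nat_lit 4) 10
 (Net.cons (nat_lit 8) 130
 Net.nil)))))

noncomputable def ns_8 : Net :=
 (Net.cons (nat_lit 8) 32
 (Net.cons (nat_lit 4) 1280
 (Net.cons (nat_lit 2) 8736
 (Net.cons (nat_lit 1) 16400
 (Net.cons (nat_lit 2) 8224
 (Net.cons (nat_lit 4) 1024
 (Net.cons (nat_lit 8) 32
 Net.nil)))))))

noncomputable def ns : List Net := [ns_0, ns_1, ns_2, ns_3, ns_4, ns_5, ns_6, ns_7, ns_8]

theorem ctx : Ctx 16 4 ns := ctx_of (by decide +kernel)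

open Cfsg Cfsg.Agent.Comp.Kron Cfsg.Agent.Class
open scoped MatrixGroups
set_option synthInstance.maxSize 2000

noncomputable def G_C5 : List Lvl :=
  []

noncomputable def G_ss4 : List (List ℕ) :=
  [[16]]

noncomputable def G_D4 : ℕ :=
  144

noncomputable def G_l4 : Lvl :=
  ⟨4, [[16]],
  tabA [(7, 1024)], 1⟩

noncomputable def G_C4 : List Lvl :=
  G_l4 :: G_C5

noncomputable def G_ss3 : List (List ℕ) :=
  [[12], [14]]

noncomputable def G_D3 : ℕ :=
  72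

noncomputable def G_l3 : Lvl :=
  ⟨3, [[12], [14], [16]],
  tabA [(6, 768)], 1⟩

noncomputable def G_C3 : List Lvl :=
  G_l3 :: G_C4

noncomputable def G_ss2 : List (List ℕ) :=
  [[8], [10]]

noncomputable def G_D2 : ℕ :=
  8116

noncomputable def G_l2 : Lvl :=
  ⟨2, [[8], [10], [12], [14], [16]],
  tabA [(7, 512), (11, 513), (10, 514), (5, 515), (8, 1792), (4, 1795), (9, 1796), (12, 2817)], 2⟩

noncomputable def G_C2 : List Lvl :=
  G_l2 :: G_C3

noncomputable def G_ss1 : List (List ℕ) :=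
  [[4], [6]]

noncomputable def G_D1 : ℕ :=
  8190

noncomputable def G_l1 : Lvl :=
  ⟨1, [[4], [6], [8], [10], [12], [14], [16]],
  tabA [(12, 256), (7, 257), (5, 258), (3, 3072), (8, 3075), (11, 3076), (4, 3078), (6, 1793), (2, 1797), (9, 1800), (10, 1287)], 2⟩

noncomputable def G_C1 : List Lvl :=
  G_l1 :: G_C2

noncomputable def G_ss0 : List (List ℕ) :=
  [[0], [2]]

noncomputable def G_D0 : ℕ :=
  8191

noncomputable def G_l0 : Lvl :=
  ⟨0, [[0], [2], [4], [6], [8], [10], [12], [14], [16]],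
  tabA [(3, 0), (2, 1), (7, 2), (8, 3), (11, 768), (5, 770), (9, 772), (12, 773), (6, 776), (1, 513), (4, 518), (10, 522)], 2⟩

noncomputable def G_C0 : List Lvl :=
  G_l0 :: G_C1

theorem G_lb5 : 1 ≤ Nat.card (cgrp ns G_C5) :=
  lb_nil _

theorem G_le4 : gen ns G_l4.ws ≤ gen ns G_ss4 :=
  gen_le_step ctx (tgt := [])
  (es := []) (le_refl (gen _ [])) (by decide +kernel)

theorem G_lv4 : chkLvl 16 ns G_l4 G_C5 G_D4 1 = true :=
  by decide +kernel

theorem G_lb4 : 2 ≤ Nat.card (cgrp ns G_C4) :=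
  lb_step ctx G_lv4 G_lb5 (by decide +kernel)

theorem G_le3 : gen ns G_l3.ws ≤ gen ns G_ss3 :=
  gen_le_step ctx (tgt := [[16]])
  (es := [([16], [1, 2])]) G_le4 (by decide +kernel)

theorem G_lv3 : chkLvl 16 ns G_l3 G_C4 G_D3 1 = true :=
  by decide +kernel

theorem G_lb3 : 4 ≤ Nat.card (cgrp ns G_C3) :=
  lb_step ctx G_lv3 G_lb4 (by decide +kernel)

theorem G_le2 : gen ns G_l2.ws ≤ gen ns G_ss2 :=
  gen_le_step ctx (tgt := [[12], [14]])
  (es := [([12], [3, 3, 1, 1, 3, 0, 3]), ([14], [4, 3, 5, 3, 3, 4, 3, 4, 4])]) G_le3 (by decide +kernel)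

theorem G_lv2 : chkLvl 16 ns G_l2 G_C3 G_D2 2 = true :=
  by decide +kernel

theorem G_lb2 : 36 ≤ Nat.card (cgrp ns G_C2) :=
  lb_step ctx G_lv2 G_lb3 (by decide +kernel)

theorem G_le1 : gen ns G_l1.ws ≤ gen ns G_ss1 :=
  gen_le_step ctx (tgt := [[8], [10]])
  (es := [([8], [0, 2, 2, 2]), ([10], [2, 2, 5, 3, 4, 3, 3])]) G_le2 (by decide +kernel)

theorem G_lv1 : chkLvl 16 ns G_l1 G_C2 G_D1 2 = true :=
  by decide +kernel

theorem G_lb1 : 432 ≤ Nat.card (cgrp ns G_C1) :=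
  lb_step ctx G_lv1 G_lb2 (by decide +kernel)

theorem G_le0 : gen ns G_l0.ws ≤ gen ns G_ss0 :=
  gen_le_step ctx (tgt := [[4], [6]])
  (es := [([4], [2, 0, 0, 2, 1, 3]), ([6], [5, 5, 2, 4, 4, 2, 2, 5, 2])]) G_le1 (by decide +kernel)

theorem G_lv0 : chkLvl 16 ns G_l0 G_C1 G_D0 1 = true :=
  by decide +kernel

theorem G_lb0 : 5616 ≤ Nat.card (cgrp ns G_C0) :=
  lb_step ctx G_lv0 G_lb1 (by decide +kernel)

theorem G_lb : 5616 ≤ Nat.card (gen ns G_ss0) :=
  lb_of_le ctx G_le0 G_lb0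

theorem hq : ∀ a : Fin 3, a.val < 3 ∧ (fun i => Fin.ofNat 3 i) a.val = a :=
  isEnum_fin' 3

noncomputable def MASK : ℕ :=
  nat_lit 0xff0000ff0000ff000000ff0000ff0000ff000000ff0000ff0000ff000000000000000000

noncomputable def MOD : ℕ :=
  nat_lit 0xffffffffffffffffff

noncomputable def DW : ℕ :=
  nat_lit 0x1000000000000000001000000000000000001000000000000000000

noncomputable def Cw : ℕ :=
  nat_lit 0x10000000100000001

noncomputable def QM : ℕ :=
  nat_lit 0x70707070707070707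

noncomputable def op : ℕ → ℕ → ℕ :=
  opP 3 11 5 QM MASK MOD

theorem X : Kron.Ctx (fun i => Fin.ofNat 3 i) (1 : ZMod 3) 8 3 1 3 3 op DW :=
  ctx_odd (isEnum_fin 3) (isBase_zmod 3) Cw (by decide +kernel)

noncomputable def o : ℕ :=
  nat_lit 0x10000000100000001

theorem ho : matB 8 3 1 3 3 oneCode o = true :=
  by decide +kernel

noncomputable def S : ℕ → ℕ :=
  tabC 24 (ones 24) [nat_lit 0x20100010100010000020101020201010201000100020001010101000201010001000101000001]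

noncomputable def Z : ℕ :=
  nat_lit 0x20000000200000002

theorem hZ : matB 8 3 1 3 3 (scalCode (fun t => getL 0 [2, 0] t)) Z = true :=
  by decide +kernel

theorem hS : validT 8 3 3 3 13 S = true :=
  by decide +kernel

/-- the points -/
noncomputable def pt : ℕ → Sub (Fin 3) (ZMod 3) := subPt (fun i => Fin.ofNat 3 i) (1 : ZMod 3) 8 3 3 S

noncomputable def C0 : ℕ :=
  nat_lit 0x202010202000102

theorem act0 : ∀ g : GL (Fin 3) (ZMod 3), RepE (fun i => Fin.ofNat 3 i) (1 : ZMod 3) 8 3 3 3 C0 g → RepBy 13 pt g (wp ns [0]) :=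
  fun _ hg => X.repBy_of_chkLine ctx hS hZ hg (t := 2) (by decide +kernel)

theorem rep0 : ∃ g ∈ (Matrix.SpecialLinearGroup.toGL : SL(3, ZMod 3) →* GL (Fin 3) (ZMod 3)).range, RepBy 13 pt g (wp ns [0]) :=
  by
  obtain ⟨g, hg⟩ := X.exists_repE' ho (C := C0) (nat_lit 0x20100010002010001) (by decide +kernel)
  have hm := X.coe_eq_matS hq hg
  exact ⟨g, ⟨⟨g, by rw [hm, Matrix.det_fin_three]; decide +kernel⟩, Units.ext rfl⟩, act0 g hg⟩

noncomputable def C1 : ℕ :=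
  nat_lit 0x10000000202010201

theorem act1 : ∀ g : GL (Fin 3) (ZMod 3), RepE (fun i => Fin.ofNat 3 i) (1 : ZMod 3) 8 3 3 3 C1 g → RepBy 13 pt g (wp ns [2]) :=
  fun _ hg => X.repBy_of_chkLine ctx hS hZ hg (t := 2) (by decide +kernel)

theorem rep1 : ∃ g ∈ (Matrix.SpecialLinearGroup.toGL : SL(3, ZMod 3) →* GL (Fin 3) (ZMod 3)).range, RepBy 13 pt g (wp ns [2]) :=
  by
  obtain ⟨g, hg⟩ := X.exists_repE' ho (C := C1) (nat_lit 0x10000020101010102) (by decide +kernel)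
  have hm := X.coe_eq_matS hq hg
  exact ⟨g, ⟨⟨g, by rw [hm, Matrix.det_fin_three]; decide +kernel⟩, Units.ext rfl⟩, act1 g hg⟩

noncomputable def ls : List (List ℕ) :=
  [[0], [2]]

theorem repsL : Reps 13 pt (Matrix.SpecialLinearGroup.toGL : SL(3, ZMod 3) →* GL (Fin 3) (ZMod 3)).range ns ls :=
  Reps.cons rep0 (Reps.cons rep1 (Reps.nil))

theorem sep0 : Sep 13 pt 0 :=
  X.sep_of_chkSepSub hS (P := 1) (by decide +kernel)

theorem inj : ∀ i < 13, ∀ j < 13, pt i = pt j → i = j :=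
  repsL.inj ctx (ps := [0]) 4 (List.forall_mem_cons.2 ⟨sep0, fun _ h => absurd h List.not_mem_nil⟩) (by decide +kernel)

theorem card : Nat.card (Matrix.ProjectiveSpecialLinearGroup (Fin 3) (ZMod 3)) = 5616 :=
  by
  have h1 := gcd_mul_card_PSL (ι := Fin 3) (F := ZMod 3)
  have h2 := card_units_mul_card_SL (ι := Fin 3) (R := ZMod 3)
  rw [← h1, Matrix.card_GL_field, Nat.card_units, Nat.card_zmod, ZMod.card, Fintype.card_fin,
    show ∏ i : Fin 3, (3 ^ 3 - 3 ^ (i : ℕ)) = 11232 by decide +kernel,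
    show Nat.gcd 3 (3 - 1) = 1 by norm_num] at h2
  omega

theorem model : ∃ e : Matrix.ProjectiveSpecialLinearGroup (Fin 3) (ZMod 3) ≃* gen ns G_ss0,
    ∀ g : SL(3, ZMod 3), RepBy 13 pt (Matrix.SpecialLinearGroup.toGL g) (e g : Equiv.Perm ℕ) :=
  by
  refine repsL.exists_quot Matrix.SpecialLinearGroup.toGL inj le_rfl _ (fun z hz i _ => ?_)
    (card.trans_le G_lb)
  obtain ⟨r, -, hr⟩ := Matrix.SpecialLinearGroup.mem_center_iff.1 hz
  refine smul_eq_of_scalar (e := r) (fun x => ?_) _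
  change Matrix.mulVec (z : Matrix (Fin 3) (Fin 3) (ZMod 3)) x = r • x
  rw [← hr]
  ext i
  simp [Matrix.mulVec_diagonal]

noncomputable def equiv : Matrix.ProjectiveSpecialLinearGroup (Fin 3) (ZMod 3) ≃* gen ns G_ss0 :=
  Classical.choose model

theorem G_card : Nat.card (gen ns G_ss0) = 5616 :=
  (Nat.card_congr equiv.toEquiv).symm.trans card

end Cfsg.Agent.FC.ModelL33
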