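import Cfsg.Agent.FC.Cnt
import Cfsg.Agent.FC.ModelL33

set_option autoImplicit false
set_option Elab.async false
set_option maxRecDepth 4096

namespace Cfsg.Agent.FC.CL33

open Cfsg.Agent.Comp

noncomputable def ns_9 : Net :=
 (Net.cons (nat_lit 8) 54
 (Net.cons (nat_lit 4) 1540
 (Net.cons (nat_lit 2) 4611
 (Net.cons (nat_lit 1) 4420
 (Net.cons (nat_lit 2) 512
 (Net.cons (nat_lit 4) 1036
 (Net.cons (nat_lit 8) 42
 Net.nil)))))))

noncomputable def ns_10 : Net :=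
 (Net.cons (nat_lit 8) 108
 (Net.cons (nat_lit 4) 3590
 (Net.cons (nat_lit 2) 304
 (Net.cons (nat_lit 1) 16704
 (Net.cons (nat_lit 2) 32
 (Net.cons (nat_lit 4) 3590
 (Net.cons (nat_lit 8) 100
 Net.nil)))))))

noncomputable def ns_11 : Net :=
 (Net.cons (nat_lit 8) 208
 (Net.cons (nat_lit 4) 778
 (Net.cons (nat_lit 2) 8706
 (Net.cons (nat_lit 1) 16660
 (Net.cons (nat_lit 2) 546
 (Net.cons (nat_lit 4) 522
 (Net.cons (nat_lit 8) 210
 Net.nil)))))))

noncomputable def ns_12 : Net :=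
 (Net.cons (nat_lit 8) 210
 (Net.cons (nat_lit 4) 268
 (Net.cons (nat_lit 2) 784
 (Net.cons (nat_lit 1) 17424
 (Net.cons (nat_lit 2) 544
 (Net.cons (nat_lit 4) 3086
 (Net.cons (nat_lit 8) 204
 Net.nil)))))))

noncomputable def ns_13 : Net :=
 (Net.cons (nat_lit 8) 254
 (Net.cons (nat_lit 4) 3342
 (Net.cons (nat_lit 2) 784
 (Net.cons (nat_lit 1) 20816
 (Net.cons (nat_lit 2) 512
 (Net.cons (nat_lit 4) 14
 (Net.cons (nat_lit 8) 234
 Net.nil)))))))

noncomputable def ns_14 : Net :=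
 (Net.cons (nat_lit 8) 148
 (Net.cons (nat_lit 4) 2048
 (Net.cons (nat_lit 1) 256
 (Net.cons (nat_lit 8) 128
 Net.nil))))

noncomputable def ns_15 : Net :=
 (Net.cons (nat_lit 8) 32
 (Net.cons (nat_lit 4) 516
 (Net.cons (nat_lit 2) 784
 (Net.cons (nat_lit 1) 4096
 (Net.cons (nat_lit 4) 516
 (Net.cons (nat_lit 8) 32
 Net.nil))))))

noncomputable def ns_16 : Net :=
 (Net.cons (nat_lit 8) 176
 (Net.cons (nat_lit 4) 2564
 (Net.cons (nat_lit 2) 8208
 (Net.cons (nat_lit 1) 5120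
 (Net.cons (nat_lit 2) 8192
 (Net.cons (nat_lit 4) 2052
 (Net.cons (nat_lit 8) 176
 Net.nil)))))))

noncomputable def ns : List Net := [FC.ModelL33.ns_0, FC.ModelL33.ns_1, FC.ModelL33.ns_2, FC.ModelL33.ns_3, FC.ModelL33.ns_4, FC.ModelL33.ns_5, FC.ModelL33.ns_6, FC.ModelL33.ns_7, FC.ModelL33.ns_8, ns_9, ns_10, ns_11, ns_12, ns_13, ns_14, ns_15, ns_16]

theorem ctx : Ctx 16 4 ns := ctx_of (by decide +kernel)

theorem lctx : LCtx 16 4 4 15 trN4 ns := lctx_of ctx trOK4 (by decide +kernel)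

noncomputable def E : List ℕ → ℕ → ℕ := pfW0 16 4 4 15 trN4 ns

theorem hE : Evl 16 ns E := evl_pfW0 lctx

theorem geq : gen FC.ModelL33.ns FC.ModelL33.G_ss0 = gen ns [[0], [2]] :=
  gen_eq_of_take (ns := FC.ModelL33.ns) (ns' := ns) (k := 9) rfl (ws := FC.ModelL33.G_ss0) (by decide +kernel)

theorem hn : Nat.card (gen ns [[0], [2]]) = 5616 :=
  geq ▸ FC.ModelL33.G_card

theorem kn_0 : Known ns (gen ns [[0], [2]]) 3 :=
  known_gen (by decide +kernel)

noncomputable def A_S5 : List SD :=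
  []

noncomputable def A_d4 : SD :=
  ⟨4, 1, [16], lab 1 1 0, 1⟩

noncomputable def A_S4 : List SD :=
  A_d4 :: A_S5

noncomputable def A_d3 : SD :=
  ⟨2, 1, [28, 30, 32, 16], lab 3 7 (nat_lit 0x4812832000), 2⟩

noncomputable def A_S3 : List SD :=
  A_d3 :: A_S4

noncomputable def A_d2 : SD :=
  ⟨3, 1, [26, 28, 30, 32, 16], lab 4 15 0, 1⟩

noncomputable def A_S2 : List SD :=
  A_d2 :: A_S3

noncomputable def A_d1 : SD :=
  ⟨1, 1, [20, 22, 24, 26, 28, 30, 32, 16], lab 4 15 (nat_lit 0x3315225404a00), 2⟩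

noncomputable def A_S1 : List SD :=
  A_d1 :: A_S2

noncomputable def A_d0 : SD :=
  ⟨0, 1, [0, 2, 18, 20, 22, 24, 26, 28, 30, 32, 16], lab 5 31 (nat_lit 0x8038a31105000560), 2⟩

noncomputable def A_S0 : List SD :=
  A_d0 :: A_S1

theorem kn_1 : Known ns (gen ns [[0], [2]]) 130819 :=
  kn_0.steps ctx (es := [(9, [0, 2, 0]),
 (10, [3, 19]),
 (11, [1, 18, 18, 0, 2, 0]),
 (12, [23, 20, 23]),
 (13, [24, 21, 24, 24, 21, 23, 20, 23, 24, 24]),
 (8, [21, 22, 22, 20, 25, 20, 20, 20, 23, 20, 22, 21, 22, 20, 24]),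
 (14, [27, 16, 27]),
 (15, [27, 16, 26, 17, 17]),
 (16, [26, 26, 16])]) (by decide +kernel)

theorem A_ex : Exact 16 ns A_S0 ∧ gen ns (sTop A_S0) = gen ns [[0], [2]] ∧ gen ns [[0], [2]] = gen ns [[0], [2]] :=
  exact_of_known ctx hn (le_rfl) kn_1 (by decide +kernel)

noncomputable def A_T5 : List ETr :=
  []

noncomputable def A_t4 : ETr :=
  (.node 16 .nil .nil)

noncomputable def A_T4 : List ETr :=
  A_t4 :: A_T5

noncomputable def A_t3 : ETr :=
  (.node 28 (.node 30 .nil (.node 32 .nil (.node 16 .nil .nil))) (.node 30 (.node 32 .nil .nil) (.node 32 (.node 30 .nil .nil) .nil)))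

noncomputable def A_T3 : List ETr :=
  A_t3 :: A_T4

noncomputable def A_t2 : ETr :=
  (.node 26 .nil .nil)

noncomputable def A_T2 : List ETr :=
  A_t2 :: A_T3

noncomputable def A_t1 : ETr :=
  (.node 20 (.node 24 .nil (.node 26 .nil (.node 28 .nil (.node 16 .nil .nil)))) (.node 21 (.node 22 .nil .nil) (.node 22 .nil (.node 23 .nil (.node 24 .nil (.node 25 .nil .nil))))))

noncomputable def A_T1 : List ETr :=
  A_t1 :: A_T2

noncomputable def A_t0 : ETr :=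
  (.node 0 (.node 0 .nil (.node 18 .nil (.node 20 .nil (.node 28 .nil (.node 30 .nil (.node 32 .nil .nil)))))) (.node 1 (.node 18 .nil .nil) (.node 2 .nil (.node 3 .nil (.node 19 .nil .nil)))))

noncomputable def A_T0 : List ETr :=
  A_t0 :: A_T1

theorem A_tr0 : chkTrees ns A_S0 A_T0 = true :=
  by decide +kernel

theorem A_tr1 : chkTrees ns A_S1 A_T1 = true :=
  by decide +kernel

theorem A_tr2 : chkTrees ns A_S2 A_T2 = true :=
  by decide +kernel

theorem A_tr3 : chkTrees ns A_S3 A_T3 = true :=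
  by decide +kernel

theorem A_tr4 : chkTrees ns A_S4 A_T4 = true :=
  by decide +kernel

theorem A_ex0 : Exact 16 ns A_S0 :=
  A_ex.1

theorem A_ex1 : Exact 16 ns A_S1 :=
  A_ex0.tail

theorem A_ex2 : Exact 16 ns A_S2 :=
  A_ex1.tail

theorem A_ex3 : Exact 16 ns A_S3 :=
  A_ex2.tail

theorem A_ex4 : Exact 16 ns A_S4 :=
  A_ex3.tail

theorem A_ex5 : Exact 16 ns A_S5 :=
  A_ex4.tail

theorem A_le0 : gen ns (sTop A_S0) ≤ gen ns (sTop A_S0) :=
  le_rfl

theorem A_le1 : gen ns (sTop A_S1) ≤ gen ns (sTop A_S0) :=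
  A_ex0.stab.le.trans A_le0

theorem A_le2 : gen ns (sTop A_S2) ≤ gen ns (sTop A_S0) :=
  A_ex1.stab.le.trans A_le1

theorem A_le3 : gen ns (sTop A_S3) ≤ gen ns (sTop A_S0) :=
  A_ex2.stab.le.trans A_le2

theorem A_le4 : gen ns (sTop A_S4) ≤ gen ns (sTop A_S0) :=
  A_ex3.stab.le.trans A_le3

theorem A_le5 : gen ns (sTop A_S5) ≤ gen ns (sTop A_S0) :=
  A_ex4.stab.le.trans A_le4

theorem fp : FP (gen ns [[0], [2]]) :=
  fp_of_hist lctx A_ex0 A_tr0 A_ex.2.1 hn (L := 14) (by decide +kernel)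

end Cfsg.Agent.FC.CL33
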