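import Cfsg.Agent.FC.Cnt
import Cfsg.Agent.Spor.ModelM11

set_option autoImplicit false
set_option Elab.async false
set_option maxRecDepth 4096

namespace Cfsg.Agent.FC.CM11

open Cfsg.Agent.Comp

noncomputable def ns_7 : Net :=
 (Net.cons (nat_lit 16) 10640
 (Net.cons (nat_lit 8) (nat_lit 0x5400be)
 (Net.cons (nat_lit 4) (nat_lit 0x9080004)
 (Net.cons (nat_lit 2) (nat_lit 0x1221202)
 (Net.cons (nat_lit 1) (nat_lit 0x50004044)
 (Net.cons (nat_lit 2) 8194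
 (Net.cons (nat_lit 4) (nat_lit 0x8000004)
 (Net.cons (nat_lit 8) (nat_lit 0x5400bc)
 (Net.cons (nat_lit 16) 10544
 Net.nil)))))))))

noncomputable def ns_8 : Net :=
 (Net.cons (nat_lit 16) 12532
 (Net.cons (nat_lit 8) (nat_lit 0x220060)
 (Net.cons (nat_lit 4) (nat_lit 0x2040c0c)
 (Net.cons (nat_lit 2) (nat_lit 0x312010)
 (Net.cons (nat_lit 1) (nat_lit 0x10004040)
 (Net.cons (nat_lit 4) 525316
 (Net.cons (nat_lit 8) (nat_lit 0x120020)
 (Net.cons (nat_lit 16) 12392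
 Net.nil))))))))

noncomputable def ns_9 : Net :=
 (Net.cons (nat_lit 16) 59432
 (Net.cons (nat_lit 8) (nat_lit 0xe00004)
 (Net.cons (nat_lit 4) (nat_lit 0xc020100)
 (Net.cons (nat_lit 2) (nat_lit 0x20110120)
 (Net.cons (nat_lit 1) (nat_lit 0x4540104)
 (Net.cons (nat_lit 2) 131072
 (Net.cons (nat_lit 4) (nat_lit 0xc020000)
 (Net.cons (nat_lit 8) (nat_lit 0x200004)
 (Net.cons (nat_lit 16) 59400
 Net.nil)))))))))

noncomputable def ns_10 : Net :=
 (Net.cons (nat_lit 16) 43264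
 (Net.cons (nat_lit 8) (nat_lit 0xcf00d8)
 (Net.cons (nat_lit 4) (nat_lit 0x6000806)
 (Net.cons (nat_lit 2) (nat_lit 0x1202012)
 (Net.cons (nat_lit 1) (nat_lit 0x41101404)
 (Net.cons (nat_lit 2) (nat_lit 0x20002002)
 (Net.cons (nat_lit 4) (nat_lit 0x8080806)
 (Net.cons (nat_lit 8) (nat_lit 0x4600c8)
 (Net.cons (nat_lit 16) 43264
 Net.nil)))))))))

noncomputable def ns_11 : Net :=
 (Net.cons (nat_lit 16) 64672
 (Net.cons (nat_lit 8) (nat_lit 0x3e0018)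
 (Net.cons (nat_lit 4) (nat_lit 0x4010300)
 (Net.cons (nat_lit 2) (nat_lit 0x30300220)
 (Net.cons (nat_lit 1) (nat_lit 0x40441100)
 (Net.cons (nat_lit 2) (nat_lit 0x200200)
 (Net.cons (nat_lit 4) (nat_lit 0xe0c0200)
 (Net.cons (nat_lit 8) (nat_lit 0xe20018)
 (Net.cons (nat_lit 16) 64672
 Net.nil)))))))))

noncomputable def ns_12 : Net :=
 (Net.cons (nat_lit 16) 48088
 (Net.cons (nat_lit 8) (nat_lit 0x3100c0)
 (Net.cons (nat_lit 4) 68616
 (Net.cons (nat_lit 2) (nat_lit 0x20120020)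
 (Net.cons (nat_lit 1) (nat_lit 0x1100450)
 (Net.cons (nat_lit 2) (nat_lit 0x2000000)
 (Net.cons (nat_lit 4) 395272
 (Net.cons (nat_lit 8) (nat_lit 0x3a00c0)
 (Net.cons (nat_lit 16) 47960
 Net.nil)))))))))

noncomputable def ns_13 : Net :=
 (Net.cons (nat_lit 16) 37848
 (Net.cons (nat_lit 8) (nat_lit 0xc000f8)
 (Net.cons (nat_lit 4) (nat_lit 0x3050008)
 (Net.cons (nat_lit 2) (nat_lit 0x10323000)
 (Net.cons (nat_lit 1) (nat_lit 0x10011440)
 (Net.cons (nat_lit 2) 131072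
 (Net.cons (nat_lit 4) (nat_lit 0x2060008)
 (Net.cons (nat_lit 8) (nat_lit 0x4000f8)
 (Net.cons (nat_lit 16) 37752
 Net.nil)))))))))

noncomputable def ns_14 : Net :=
 (Net.cons (nat_lit 16) 29688
 (Net.cons (nat_lit 8) (nat_lit 0x5200b0)
 (Net.cons (nat_lit 4) (nat_lit 0x4050408)
 (Net.cons (nat_lit 2) (nat_lit 0x3313000)
 (Net.cons (nat_lit 1) (nat_lit 0x14014040)
 (Net.cons (nat_lit 2) (nat_lit 0x2000000)
 (Net.cons (nat_lit 4) (nat_lit 0x4000400)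
 (Net.cons (nat_lit 8) 184
 (Net.cons (nat_lit 16) 29528
 Net.nil)))))))))

noncomputable def ns_15 : Net :=
 (Net.cons (nat_lit 16) 47088
 (Net.cons (nat_lit 8) (nat_lit 0xd40070)
 (Net.cons (nat_lit 4) (nat_lit 0x30b0800)
 (Net.cons (nat_lit 2) (nat_lit 0x2003000)
 (Net.cons (nat_lit 1) (nat_lit 0x4044040)
 (Net.cons (nat_lit 2) (nat_lit 0x2000000)
 (Net.cons (nat_lit 4) (nat_lit 0x4000800)
 (Net.cons (nat_lit 8) (nat_lit 0x440070)
 (Net.cons (nat_lit 16) 47088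
 Net.nil)))))))))

noncomputable def ns_16 : Net :=
 (Net.cons (nat_lit 16) 43264
 (Net.cons (nat_lit 8) (nat_lit 0xf100d0)
 (Net.cons (nat_lit 4) (nat_lit 0x80c0400)
 (Net.cons (nat_lit 2) (nat_lit 0x200200)
 (Net.cons (nat_lit 1) (nat_lit 0x50404400)
 (Net.cons (nat_lit 2) (nat_lit 0x200200)
 (Net.cons (nat_lit 4) (nat_lit 0x8040400)
 (Net.cons (nat_lit 8) (nat_lit 0xf000c0)
 (Net.cons (nat_lit 16) 43264
 Net.nil)))))))))

noncomputable def ns : List Net := [Spor.ModelM11.ns_0, Spor.ModelM11.ns_1, Spor.ModelM11.ns_2, Spor.ModelM11.ns_3, Spor.ModelM11.ns_4, Spor.ModelM11.ns_5, Spor.ModelM11.ns_6, ns_7, ns_8, ns_9, ns_10, ns_11, ns_12, ns_13, ns_14, ns_15, ns_16]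

theorem ctx : Ctx 32 5 ns := ctx_of (by decide +kernel)

theorem lctx : LCtx 32 5 8 31 trN5 ns := lctx_of ctx trOK5 (by decide +kernel)

noncomputable def E : List ℕ → ℕ → ℕ := pfW0 32 5 8 31 trN5 ns

theorem hE : Evl 32 ns E := evl_pfW0 lctx

theorem geq : gen Spor.ModelM11.ns Spor.ModelM11.G_ss0 = gen ns [[0], [2]] :=
  gen_eq_of_take (ns := Spor.ModelM11.ns) (ns' := ns) (k := 7) rfl (ws := Spor.ModelM11.G_ss0) (by decide +kernel)

theorem hn : Nat.card (gen ns [[0], [2]]) = 7920 :=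
  geq ▸ Spor.ModelM11.G_card

theorem kn_0 : Known ns (gen ns [[0], [2]]) 3 :=
  known_gen (by decide +kernel)

noncomputable def A_S5 : List SD :=
  []

noncomputable def A_d4 : SD :=
  ⟨4, 1, [32], lab 1 1 0, 1⟩

noncomputable def A_S4 : List SD :=
  A_d4 :: A_S5

noncomputable def A_d3 : SD :=
  ⟨5, 1, [28, 30, 32], lab 3 7 (nat_lit 0x10080000000000), 2⟩

noncomputable def A_S3 : List SD :=
  A_d3 :: A_S4

noncomputable def A_d2 : SD :=
  ⟨3, 1, [22, 24, 26, 28, 30, 32], lab 4 15 (nat_lit 0x402003a000105000000), 2⟩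

noncomputable def A_S2 : List SD :=
  A_d2 :: A_S3

noncomputable def A_d1 : SD :=
  ⟨2, 1, [16, 18, 20, 22, 24, 26, 28, 30, 32], lab 5 31 (nat_lit 0xc0800001000670200500000), 2⟩

noncomputable def A_S1 : List SD :=
  A_d1 :: A_S2

noncomputable def A_d0 : SD :=
  ⟨1, 1, [0, 2, 14, 16, 18, 20, 22, 24, 26, 28, 30, 32], lab 5 31 (nat_lit 0x300d000e0002030101628800), 2⟩

noncomputable def A_S0 : List SD :=
  A_d0 :: A_S1

theorem kn_1 : Known ns (gen ns [[0], [2]]) 130947 :=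
  kn_0.steps ctx (es := [(7, [0, 2, 0]),
 (8, [14, 3, 15, 3, 3, 15, 3, 1, 3, 0, 3]),
 (9, [3]),
 (10, [17, 19, 19, 17, 18, 17]),
 (11, [19, 20]),
 (12, [16, 19, 16, 21, 18, 21, 21]),
 (13, [24, 24, 22]),
 (14, [23, 27, 23, 27, 25, 25, 27, 23, 24, 26]),
 (15, [23, 26, 22, 27, 23, 26, 26, 23, 26]),
 (16, [28, 28])]) (by decide +kernel)

theorem A_ex : Exact 32 ns A_S0 ∧ gen ns (sTop A_S0) = gen ns [[0], [2]] ∧ gen ns [[0], [2]] = gen ns [[0], [2]] :=
  exact_of_known ctx hn (le_rfl) kn_1 (by decide +kernel)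

noncomputable def A_T5 : List ETr :=
  []

noncomputable def A_t4 : ETr :=
  (.node 32 .nil .nil)

noncomputable def A_T4 : List ETr :=
  A_t4 :: A_T5

noncomputable def A_t3 : ETr :=
  (.node 28 (.node 30 .nil .nil) (.node 30 .nil .nil))

noncomputable def A_T3 : List ETr :=
  A_t3 :: A_T4

noncomputable def A_t2 : ETr :=
  (.node 22 (.node 22 .nil (.node 24 .nil (.node 26 .nil (.node 27 .nil .nil)))) (.node 23 .nil (.node 24 .nil (.node 25 .nil .nil))))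

noncomputable def A_T2 : List ETr :=
  A_t2 :: A_T3

noncomputable def A_t1 : ETr :=
  (.node 16 (.node 16 .nil (.node 19 .nil (.node 22 .nil (.node 23 .nil .nil)))) (.node 17 .nil (.node 18 (.node 25 .nil .nil) (.node 20 .nil .nil))))

noncomputable def A_T1 : List ETr :=
  A_t1 :: A_T2

noncomputable def A_t0 : ETr :=
  (.node 0 (.node 2 .nil (.node 3 .nil (.node 16 .nil (.node 22 .nil (.node 23 .nil (.node 27 .nil (.node 32 .nil .nil))))))) (.node 14 .nil (.node 15 .nil .nil)))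

noncomputable def A_T0 : List ETr :=
  A_t0 :: A_T1

theorem A_tr0 : chkTrees ns A_S0 A_T0 = true :=
  by decide +kernel

theorem A_tr1 : chkTrees ns A_S1 A_T1 = true :=
  by decide +kernel

theorem A_tr2 : chkTrees ns A_S2 A_T2 = true :=
  by decide +kernel

theorem A_tr3 : chkTrees ns A_S3 A_T3 = true :=
  by decide +kernel

theorem A_tr4 : chkTrees ns A_S4 A_T4 = true :=
  by decide +kernel

theorem A_ex0 : Exact 32 ns A_S0 :=
  A_ex.1

theorem A_ex1 : Exact 32 ns A_S1 :=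
  A_ex0.tail

theorem A_ex2 : Exact 32 ns A_S2 :=
  A_ex1.tail

theorem A_ex3 : Exact 32 ns A_S3 :=
  A_ex2.tail

theorem A_ex4 : Exact 32 ns A_S4 :=
  A_ex3.tail

theorem A_ex5 : Exact 32 ns A_S5 :=
  A_ex4.tail

theorem A_le0 : gen ns (sTop A_S0) ≤ gen ns (sTop A_S0) :=
  le_rfl

theorem A_le1 : gen ns (sTop A_S1) ≤ gen ns (sTop A_S0) :=
  A_ex0.stab.le.trans A_le0

theorem A_le2 : gen ns (sTop A_S2) ≤ gen ns (sTop A_S0) :=
  A_ex1.stab.le.trans A_le1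

theorem A_le3 : gen ns (sTop A_S3) ≤ gen ns (sTop A_S0) :=
  A_ex2.stab.le.trans A_le2

theorem A_le4 : gen ns (sTop A_S4) ≤ gen ns (sTop A_S0) :=
  A_ex3.stab.le.trans A_le3

theorem A_le5 : gen ns (sTop A_S5) ≤ gen ns (sTop A_S0) :=
  A_ex4.stab.le.trans A_le4

theorem fp : FP (gen ns [[0], [2]]) :=
  fp_of_hist lctx A_ex0 A_tr0 A_ex.2.1 hn (L := 13) (by decide +kernel)

end Cfsg.Agent.FC.CM11
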