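import Cfsg.Agent.FC.Cnt
import Cfsg.Agent.Spor.ModelU33

set_option autoImplicit false
set_option Elab.async false
set_option maxRecDepth 4096

namespace Cfsg.Agent.FC.CU33

open Cfsg.Agent.Comp

noncomputable def ns_7 : Net :=
 (Net.cons (nat_lit 32) (nat_lit 0xd863c99e)
 (Net.cons (nat_lit 16) (nat_lit 0xacbd0000fc94)
 (Net.cons (nat_lit 8) (nat_lit 0xae00cc001c000c)
 (Net.cons (nat_lit 4) (nat_lit 0x70503040f0a0a04)
 (Net.cons (nat_lit 2) (nat_lit 0x2210010022102132)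
 (Net.cons (nat_lit 1) (nat_lit 0x501140550501114)
 (Net.cons (nat_lit 2) (nat_lit 0x220000002000)
 (Net.cons (nat_lit 4) (nat_lit 0xa040c00020e0c0c)
 (Net.cons (nat_lit 8) (nat_lit 0xd4009200a0004c)
 (Net.cons (nat_lit 16) (nat_lit 0x3bc80000afe4)
 (Net.cons (nat_lit 32) (nat_lit 0x8c56a460)
 Net.nil)))))))))))

noncomputable def ns_8 : Net :=
 (Net.cons (nat_lit 32) (nat_lit 0xd55e6bfc)
 (Net.cons (nat_lit 16) (nat_lit 0x6e620000bf8c)
 (Net.cons (nat_lit 8) (nat_lit 0xd5001000de0052)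
 (Net.cons (nat_lit 4) (nat_lit 0x80c040b04000808)
 (Net.cons (nat_lit 2) (nat_lit 0x2022222311220002)
 (Net.cons (nat_lit 1) (nat_lit 0x4104511454144004)
 (Net.cons (nat_lit 2) (nat_lit 0x2002022202000000)
 (Net.cons (nat_lit 4) (nat_lit 0x400000a080c)
 (Net.cons (nat_lit 8) (nat_lit 0xe000b0001c0044)
 (Net.cons (nat_lit 16) (nat_lit 0xc45a0000e514)
 (Net.cons (nat_lit 32) (nat_lit 0xc5588bf0)
 Net.nil)))))))))))

noncomputable def ns_9 : Net :=
 (Net.cons (nat_lit 32) (nat_lit 0x8fb73a8)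
 (Net.cons (nat_lit 16) (nat_lit 0xe8d70000d1d4)
 (Net.cons (nat_lit 8) (nat_lit 0x32003100e4000e)
 (Net.cons (nat_lit 4) (nat_lit 0x805060306020006)
 (Net.cons (nat_lit 2) (nat_lit 0x2201123002300100)
 (Net.cons (nat_lit 1) (nat_lit 0x41040141440410)
 (Net.cons (nat_lit 2) (nat_lit 0x20020020200220)
 (Net.cons (nat_lit 4) (nat_lit 0x4020a000c0a08)
 (Net.cons (nat_lit 8) (nat_lit 0x6c002c00720014)
 (Net.cons (nat_lit 16) (nat_lit 0xfd100000b180)
 (Net.cons (nat_lit 32) (nat_lit 0x4323f602)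
 Net.nil)))))))))))

noncomputable def ns_10 : Net :=
 (Net.cons (nat_lit 32) (nat_lit 0x75b760ca)
 (Net.cons (nat_lit 16) (nat_lit 0x6cb60000809a)
 (Net.cons (nat_lit 8) (nat_lit 0x9900410072001c)
 (Net.cons (nat_lit 4) (nat_lit 0x2020a0c010c030e)
 (Net.cons (nat_lit 2) (nat_lit 0x2202213321022032)
 (Net.cons (nat_lit 1) (nat_lit 0x1114454105441140)
 (Net.cons (nat_lit 2) (nat_lit 0x2000200200022000)
 (Net.cons (nat_lit 4) (nat_lit 0x802080e00000a08)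
 (Net.cons (nat_lit 8) (nat_lit 0x880050009000e8)
 (Net.cons (nat_lit 16) (nat_lit 0x4d300000a4c0)
 (Net.cons (nat_lit 32) (nat_lit 0x798fc828)
 Net.nil)))))))))))

noncomputable def ns_11 : Net :=
 (Net.cons (nat_lit 32) (nat_lit 0xd21267c8)
 (Net.cons (nat_lit 16) (nat_lit 0x85d60000c842)
 (Net.cons (nat_lit 8) (nat_lit 0x60003f00e000bc)
 (Net.cons (nat_lit 4) (nat_lit 0xc0e01030c0e090c)
 (Net.cons (nat_lit 2) (nat_lit 0x312022020300322)
 (Net.cons (nat_lit 1) (nat_lit 0x5054111101011514)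
 (Net.cons (nat_lit 2) (nat_lit 0x2000002002)
 (Net.cons (nat_lit 4) (nat_lit 0xc00080a080e000c)
 (Net.cons (nat_lit 8) (nat_lit 0x60008200600084)
 (Net.cons (nat_lit 16) (nat_lit 0x854400008842)
 (Net.cons (nat_lit 32) (nat_lit 0xd21267c8)
 Net.nil)))))))))))

noncomputable def ns : List Net := [Spor.ModelU33.ns_0, Spor.ModelU33.ns_1, Spor.ModelU33.ns_2, Spor.ModelU33.ns_3, Spor.ModelU33.ns_4, Spor.ModelU33.ns_5, Spor.ModelU33.ns_6, ns_7, ns_8, ns_9, ns_10, ns_11]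

theorem ctx : Ctx 64 6 ns := ctx_of (by decide +kernel)

theorem lctx : LCtx 64 6 8 63 trN6 ns := lctx_of ctx trOK6 (by decide +kernel)

noncomputable def E : List ℕ → ℕ → ℕ := pfW0 64 6 8 63 trN6 ns

theorem hE : Evl 64 ns E := evl_pfW0 lctx

theorem geq : gen Spor.ModelU33.ns Spor.ModelU33.G_l0.ws = gen ns [[0, 0, 2, 0, 3, 1, 1, 1], [0, 2, 0, 3, 0, 1, 3, 1, 1, 2], [8], [4], [6], [12], [10]] :=
  gen_eq_of_take (ns := Spor.ModelU33.ns) (ns' := ns) (k := 7) rfl (ws := Spor.ModelU33.G_l0.ws) (by decide +kernel)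

theorem hn : Nat.card (gen ns [[0, 0, 2, 0, 3, 1, 1, 1], [0, 2, 0, 3, 0, 1, 3, 1, 1, 2], [8], [4], [6], [12], [10]]) = 6048 :=
  geq ▸ Spor.ModelU33.G_card0

theorem kn_0 : Known ns (gen ns [[0, 0, 2, 0, 3, 1, 1, 1], [0, 2, 0, 3, 0, 1, 3, 1, 1, 2], [8], [4], [6], [12], [10]]) 124 :=
  known_gen (by decide +kernel)

noncomputable def A_S4 : List SD :=
  []

noncomputable def A_d3 : SD :=
  ⟨1, 1, [20, 22], lab 2 3 (nat_lit 0x1000000008000000000), 1⟩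

noncomputable def A_S3 : List SD :=
  A_d3 :: A_S4

noncomputable def A_d2 : SD :=
  ⟨14, 3, [18, 4, 20, 22], lab 3 7 (nat_lit 0x40000000000000000000000000000000000000000), 2⟩

noncomputable def A_S2 : List SD :=
  A_d2 :: A_S3

noncomputable def A_d1 : SD :=
  ⟨9, 2, [14, 16, 18, 4, 20, 22], lab 4 15 (nat_lit 0x2000000003000000000000000000100000000000040000000000000000), 2⟩

noncomputable def A_S1 : List SD :=
  A_d1 :: A_S2

noncomputable def A_d0 : SD :=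
  ⟨0, 2, [8, 6, 12, 10, 14, 16, 18, 4, 20, 22], lab 5 31 (nat_lit 0x48463ace0624a541de00808d7a4c1908217348c71c524982a1390070543585f21a8832800a015e0), 4⟩

noncomputable def A_S0 : List SD :=
  A_d0 :: A_S1

theorem kn_1 : Known ns (gen ns [[0, 0, 2, 0, 3, 1, 1, 1], [0, 2, 0, 3, 0, 1, 3, 1, 1, 2], [8], [4], [6], [12], [10]]) 4092 :=
  kn_0.steps ctx (es := [(7, [9, 5, 11, 9, 6]),
 (8, [8, 8, 13, 13, 5, 9, 13, 8, 12, 12, 11]),
 (9, [14, 16, 14, 14]),
 (10, [18, 5, 5, 19, 4]),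
 (11, [20, 20, 20, 20, 20, 20])]) (by decide +kernel)

theorem A_ex : Exact 64 ns A_S0 ∧ gen ns (sTop A_S0) = gen ns [[0, 0, 2, 0, 3, 1, 1, 1], [0, 2, 0, 3, 0, 1, 3, 1, 1, 2], [8], [4], [6], [12], [10]] ∧ gen ns [[0, 0, 2, 0, 3, 1, 1, 1], [0, 2, 0, 3, 0, 1, 3, 1, 1, 2], [8], [4], [6], [12], [10]] = gen ns [[0, 0, 2, 0, 3, 1, 1, 1], [0, 2, 0, 3, 0, 1, 3, 1, 1, 2], [8], [4], [6], [12], [10]] :=
  exact_of_known ctx hn (le_rfl) kn_1 (by decide +kernel)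

noncomputable def A_T4 : List ETr :=
  []

noncomputable def A_t3 : ETr :=
  (.node 20 .nil (.node 21 .nil (.node 22 .nil .nil)))

noncomputable def A_T3 : List ETr :=
  A_t3 :: A_T4

noncomputable def A_t2 : ETr :=
  (.node 18 (.node 18 .nil .nil) (.node 19 .nil .nil))

noncomputable def A_T2 : List ETr :=
  A_t2 :: A_T3

noncomputable def A_t1 : ETr :=
  (.node 14 (.node 22 .nil .nil) (.node 15 (.node 16 .nil .nil) (.node 17 .nil .nil)))

noncomputable def A_T1 : List ETr :=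
  A_t1 :: A_T2

noncomputable def A_t0 : ETr :=
  (.node 8 (.node 8 (.node 8 (.node 6 .nil (.node 7 .nil (.node 12 .nil (.node 10 .nil (.node 17 .nil .nil))))) (.node 13 (.node 16 .nil .nil) (.node 10 .nil (.node 11 .nil (.node 14 .nil (.node 15 .nil (.node 16 .nil (.node 18 .nil (.node 4 .nil (.node 5 .nil (.node 22 .nil .nil))))))))))) (.node 6 (.node 8 .nil (.node 9 .nil (.node 6 .nil (.node 12 .nil (.node 13 .nil (.node 10 .nil (.node 15 .nil (.node 5 .nil .nil)))))))) (.node 7 (.node 8 .nil (.node 11 .nil (.node 17 .nil (.node 18 .nil (.node 4 .nil .nil))))) (.node 12 (.node 9 .nil .nil) (.node 13 .nil (.node 10 .nil (.node 11 .nil (.node 16 .nil (.node 17 (.node 8 .nil .nil) (.node 19 .nil (.node 4 (.node 8 .nil .nil) (.node 5 .nil (.node 22 .nil .nil))))))))))))) (.node 9 (.node 9 (.node 12 .nil (.node 11 .nil (.node 16 .nil (.node 18 .nil (.node 5 .nil (.node 22 .nil .nil)))))) (.node 7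 .nil (.node 10 .nil (.node 15 .nil (.node 16 .nil (.node 17 .nil (.node 18 .nil (.node 4 .nil .nil)))))))) .nil))

noncomputable def A_T0 : List ETr :=
  A_t0 :: A_T1

theorem A_tr0 : chkTrees ns A_S0 A_T0 = true :=
  by decide +kernel

theorem A_tr1 : chkTrees ns A_S1 A_T1 = true :=
  by decide +kernel

theorem A_tr2 : chkTrees ns A_S2 A_T2 = true :=
  by decide +kernel

theorem A_tr3 : chkTrees ns A_S3 A_T3 = true :=
  by decide +kernel

theorem A_ex0 : Exact 64 ns A_S0 :=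
  A_ex.1

theorem A_ex1 : Exact 64 ns A_S1 :=
  A_ex0.tail

theorem A_ex2 : Exact 64 ns A_S2 :=
  A_ex1.tail

theorem A_ex3 : Exact 64 ns A_S3 :=
  A_ex2.tail

theorem A_ex4 : Exact 64 ns A_S4 :=
  A_ex3.tail

theorem A_le0 : gen ns (sTop A_S0) ≤ gen ns (sTop A_S0) :=
  le_rfl

theorem A_le1 : gen ns (sTop A_S1) ≤ gen ns (sTop A_S0) :=
  A_ex0.stab.le.trans A_le0

theorem A_le2 : gen ns (sTop A_S2) ≤ gen ns (sTop A_S0) :=
  A_ex1.stab.le.trans A_le1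

theorem A_le3 : gen ns (sTop A_S3) ≤ gen ns (sTop A_S0) :=
  A_ex2.stab.le.trans A_le2

theorem A_le4 : gen ns (sTop A_S4) ≤ gen ns (sTop A_S0) :=
  A_ex3.stab.le.trans A_le3

theorem fp : FP (gen ns [[0, 0, 2, 0, 3, 1, 1, 1], [0, 2, 0, 3, 0, 1, 3, 1, 1, 2], [8], [4], [6], [12], [10]]) :=
  fp_of_hist lctx A_ex0 A_tr0 A_ex.2.1 hn (L := 13) (by decide +kernel)

end Cfsg.Agent.FC.CU33
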