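import Cfsg.Agent.FC.Hall
import Cfsg.Agent.NG.Main

/-! The Frobenius conjecture for the simple groups with the 2-local structure of the Tits group. -/

set_option autoImplicit false

namespace Cfsg.Agent.FC

open Subgroup Cfsg.Agent.PLocal Cfsg.Agent.PLocal.Amb Cfsg.Agent.PLocal.CP Cfsg.Agent.PLocal.JC
open Cfsg.Agent.NG

variable {G : Type*} [Group G] [Finite G]

theorem ti_le (K : Subgroup G) (X : Set G) {n : ℕ} (hX : ∀ x ∈ X, x ^ n = 1)
    (h : ∀ x ∈ X, ∀ g, g * x * g⁻¹ ∈ X → g ∈ K) : K.index * X.ncard ≤ nsol G n := by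
  rw [index_eq_card, ← Nat.card_coe_set_eq, ← Nat.card_prod]
  refine Nat.card_le_card_of_injective (fun p => ⟨p.1.out * p.2 * p.1.out⁻¹, by
    rw [conj_pow, hX _ p.2.2]; simp⟩) ?_
  rintro ⟨c, x, hx⟩ ⟨d, y, hy⟩ e
  have e1 : c.out * x * c.out⁻¹ = d.out * y * d.out⁻¹ := congrArg Subtype.val e
  obtain rfl : d = c := by
    rw [← QuotientGroup.out_eq' c, ← QuotientGroup.out_eq' d, QuotientGroup.eq]
    refine h x hx _ ?_
    rwa [show d.out⁻¹ * c.out * x * (d.out⁻¹ * c.out)⁻¹ = d.out⁻¹ * (c.out * x * c.out⁻¹) * d.out by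
      group, e1, show d.out⁻¹ * (d.out * y * d.out⁻¹) * d.out = y by group]
  obtain rfl : x = y := by simpa using e1
  rfl

theorem class_le (x : G) {n : ℕ} (hx : x ^ n = 1) : (𝐂₁[x]).index ≤ nsol G n := by
  simpa using ti_le 𝐂₁[x] {x} (n := n) (by simpa using hx) (by
    rintro _ rfl g hg
    exact mem_centralizer_singleton_iff.2 (mul_inv_eq_iff_eq_mul.1 hg))

theorem ne_of_exp {p e a m : ℕ} (hp : p.Prime) (h : ∀ (x : G) k, x ^ p ^ k = 1 → x ^ p ^ e = 1)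
    (ha : e ≤ a) (hn : p ^ (a + 1) * m ∣ Nat.card G) : nsol G (p ^ a * m) ≠ p ^ a * m := fun hc => by
  have h1 : nsol G (p ^ (a + 1) * m) = nsol G (p ^ a * m) :=
    Nat.card_congr (Equiv.subtypeEquivRight fun x => ⟨fun h1 => by
      rw [mul_comm, pow_mul] at h1 ⊢
      obtain ⟨b, rfl⟩ := Nat.exists_eq_add_of_le ha
      rw [pow_add, pow_mul, h _ _ h1, one_pow], fun h1 => by
      rw [pow_succ, mul_right_comm, pow_mul, h1, one_pow]⟩)
  have h2 := le_nsol hn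
  have h3 := nsol_pos (G := G) (p ^ a * m)
  have := hp.two_le
  rw [h1, hc, pow_succ, mul_right_comm] at h2
  rw [hc] at h3
  nlinarith

theorem of_subgroup [IsSimpleGroup G] {n : ℕ} (hc : nsol G n = n) {K : Subgroup G}
    (hK : Nat.card K = n) : n = 1 ∨ n = Nat.card G := by
  have h1 : ∀ x, x ∈ K ↔ x ^ n = 1 := Set.ext_iff.1 (coe_eq_of_card hc hK)
  have h2 : K.Normal := ⟨fun x hx g => (h1 _).2 (by rw [conj_pow, (h1 x).1 hx]; simp)⟩
  rcases h2.eq_bot_or_eq_top with rfl | rfl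
  · exact Or.inl (hK.symm.trans card_bot)
  · exact Or.inr (hK.symm.trans card_top)

theorem thirteen (hG : Nat.card G = 17971200)
    (h : ∀ t x : G, orderOf t = 2 → orderOf x = 13 → t ∉ 𝐂₁[x]) {n : ℕ} (hn : 13 ∣ n) :
    70200 < nsol G n := by
  have : Fact (Nat.Prime 13) := ⟨by norm_num⟩
  obtain ⟨P⟩ : Nonempty (Sylow 13 G) := inferInstance
  have hP : Nat.card (P : Subgroup G) = 13 := by
    rw [P.card_eq_multiplicity, hG, show 17971200 = 13 ^ 1 * 1382400 by norm_num,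
      Nat.factorization_mul (by norm_num) (by norm_num), Nat.Prime.factorization_pow Fact.out,
      Finsupp.add_apply, Finsupp.single_eq_same, Nat.factorization_eq_zero_of_not_dvd (by norm_num)]
    rfl
  have h1 : ∀ x ∈ (P : Subgroup G), x ≠ 1 → orderOf x = 13 := fun x hx h1 =>
    orderOf_eq_prime (orderOf_dvd_iff_pow_eq_one.1 (hP ▸ orderOf_dvd_natCard _ hx)) h1
  have h2 : ∀ x ∈ (P : Subgroup G), x ≠ 1 → zpowers x = P := fun x hx h2 =>
    eq_of_le_of_card_ge (zpowers_le.2 hx) (by rw [Nat.card_zpowers, h1 x hx h2, hP])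
  have h3 := ti_le 𝐍[(P : Subgroup G)] ((P : Subgroup G) \ {1}) (n := n)
    (fun x hx => orderOf_dvd_iff_pow_eq_one.1 (h1 x hx.1 hx.2 ▸ hn)) fun x hx g hg => by
      rw [← cj_eq_iff]
      exact (congrArg _ (h2 x hx.1 hx.2).symm).trans ((OctA.cj_zp g x).trans (h2 _ hg.1 hg.2))
  rw [Set.ncard_diff_singleton_of_mem (one_mem _), ← Nat.card_coe_set_eq] at h3
  replace h3 : _ * (Nat.card (P : Subgroup G) - 1) ≤ _ := h3
  have h4 := card_sylow_modEq_one 13 G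
  rw [P.card_eq_index_normalizer] at h4
  have h5 : (𝐂[(P : Subgroup G)]).relIndex 𝐍[(P : Subgroup G)] ∣ 12 := by
    have := isCyclic_of_prime_card hP
    have h5 := card_subgroup_dvd_card (P : Subgroup G).normalizerMonoidHom.range
    rwa [← index_ker, normalizerMonoidHom_ker, IsCyclic.card_mulAut, hP,
      Nat.totient_prime Fact.out] at h5
  have h6 : ¬ 2 ∣ Nat.card 𝐂[(P : Subgroup G)] := fun h6 => by
    obtain ⟨t, ht⟩ := exists_prime_orderOf_dvd_card' 2 h6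
    obtain ⟨x, hx, hx1⟩ := (nontrivial_iff_exists_ne_one (P : Subgroup G)).1
      (Finite.one_lt_card_iff_nontrivial.1 (by omega))
    exact h t _ ((orderOf_coe t).trans ht) (h1 _ hx hx1)
      (mem_centralizer_singleton_iff.2 (mem_centralizer_iff.1 t.2 _ hx).symm)
  have h7 := Grp.card_mul_relIndex_of_le (centralizer_le_normalizer' (P : Subgroup G))
  have h8 := card_mul_index 𝐍[(P : Subgroup G)]
  rw [← h7, hG] at h8
  rw [hP] at h3
  generalize (𝐍[(P : Subgroup G)]).index = k at h3 h4 h8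
  generalize Nat.card 𝐂[(P : Subgroup G)] = c at h6 h8
  obtain ⟨j, hj⟩ := h5
  generalize (𝐂[(P : Subgroup G)]).relIndex 𝐍[(P : Subgroup G)] = i at h8 hj
  have h9 : 2 ^ 9 ∣ c * 3 * k := Nat.dvd_of_mul_dvd_mul_left (k := 4) (by norm_num) (by
    rw [show 4 * (c * 3 * k) = c * 12 * k by ring, hj, show c * (i * j) * k = c * i * k * j by ring, h8]
    exact Dvd.dvd.mul_right (by norm_num) j)
  obtain ⟨l, rfl⟩ := (Nat.Coprime.pow_left 9 (Nat.Coprime.mul_right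
    ((Nat.Prime.coprime_iff_not_dvd Nat.prime_two).2 h6) (by norm_num))).dvd_of_dvd_mul_left h9
  have h10 : l = 8 ∨ 12 ≤ l := by unfold Nat.ModEq at h4; omega
  rcases h10 with rfl | h10 <;> omega

section
variable {S M V H Y F : Subgroup G} {z m : G} (h : T5 S M V z H Y F m)
include h

theorem pow_four {x : G} (hx : x ∈ S) : x ^ 4 ∈ Y := by
  have := normal_subgroupOf' (h.S_le.trans h.Y_norm)
  have h1 := (Y.subgroupOf S).pow_index_mem ⟨x, hx⟩
  rwa [show (Y.subgroupOf S).index = 4 from h.basic.2.2.2.2.2.2.1] at h1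

theorem mem_S {x g : G} (hx : x ∈ S) (hx' : x ∉ Y) (hg : g ∈ H) (h1 : g⁻¹ * x * g ∈ S) : g ∈ S := by
  obtain ⟨_, _, _, c⟩ := h.exists_TU
  obtain ⟨a, ha, ha'⟩ := c.exists_a
  have h2 := (h.act ha ha').2.2.2.2.2.2.1
  obtain ⟨j, hj⟩ : ∃ j : ℕ, x ^ j * a⁻¹ ∈ Y := by
    by_cases h3 : x * x ∈ Y
    · exact ⟨1, by rw [pow_one]; exact (h2 x hx h3).resolve_left hx'⟩
    · refine ⟨2, (h2 _ (pow_mem hx 2) ?_).resolve_left (by rwa [pow_two])⟩
      rw [← pow_add]; exact pow_four h hx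
  refine h.S_eq.le ⟨hg, h.mem_M_of_conj ha ha' (h.H_le_C hg) ?_⟩
  have h3 := h.YS (Amb.conj_mem_of_mem_normalizer (inv_mem (h.Y_norm hg)) hj)
  have h4 := pow_mem h1 j
  rw [← inv_inv g, inv_inv g⁻¹, conj_pow] at h4
  simpa [mul_assoc] using mul_mem (inv_mem h3) h4

theorem eq_z {x u : G} (hx : x ∈ S) (h1 : x ∉ Y) (h2 : x ∉ 𝐂[V]) (hu : IsConj z u)
    (hc : x * u * x⁻¹ = u) : u = z := by
  obtain ⟨n, hn, p, rfl, hp⟩ := h.oct.exists_nb (OctA.cn_refl V) hu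
  have hM : ∀ g ∈ S, cj(g, V) = V := fun g hg => cj_eq_iff.2 (h.N_V.ge (h.le hg))
  have h3 := (h.oct.nb_unique hn hn (hM x hx ▸ hp.cj x) hp hc).2
  have h4 : p n = z := by_contra fun e => h2 (h.mem_cent_V (h.H_le_C (h.S_le hx)) hp.mem
    (hp.ne_one n le_rfl) e (mem_centralizer_singleton_iff.2 (mul_inv_eq_iff_eq_mul.1 (h3 n le_rfl))))
  rcases n with _ | n
  · exact h4
  obtain ⟨g, hg, e⟩ := h.line_iff.1 ⟨(hp.col n n.lt_succ_self).2, h4 ▸ OctA.mr _ _⟩
  have h5 : x ∈ 𝐍[cj(g, V)] := by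
    rw [e, ← cj_eq_iff, Subgroup.map_sup, OctA.cj_zp, OctA.cj_zp, h3 n n.le_succ, h3 _ le_rfl]
  rw [normalizer_cj, mem_cj, h.N_V] at h5
  rw [hM g (mem_S h hx h1 hg (h.S_eq.le ⟨H.mul_mem (H.mul_mem (H.inv_mem hg) (h.S_le hx)) hg, h5⟩))] at e
  exact (hp.last n rfl (e.ge (OctA.ml _ _))).elim

theorem flags {n : ℕ} (hn : 2048 ∣ n) : 6739200 ≤ nsol G n := by
  have hS := h.C1_eq.2.2
  have h1 := ti_le S (S \ (Y ∪ 𝐂[V])) (n := n) (fun x hx => orderOf_dvd_iff_pow_eq_one.1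
    ((hS ▸ orderOf_dvd_natCard _ hx.1).trans hn)) fun x hx g hg => by
      have h1 := eq_z h hg.1 (fun e => hg.2 (Or.inl e)) (fun e => hg.2 (Or.inr e))
        (isConj_iff.2 ⟨g, rfl⟩) (by simp [mul_assoc, ← mul_assoc x z, h.comm_z (h.S_le hx.1)])
      exact mem_S h hg.1 (fun e => hg.2 (Or.inl e)) (h.cent_z.1.le
        (mem_centralizer_singleton_iff.2 (mul_inv_eq_iff_eq_mul.1 h1))) (by simpa [mul_assoc] using hx.1)
  have h2 := card_mul_index S
  have h3 := Set.ncard_diff_add_ncard_of_subset (s := Y ∪ 𝐂[V]) (t := (S : Set G))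
    (Set.union_subset (fun _ e => h.YS e) fun _ e => h.R_le e)
  have h4 := Set.ncard_union_add_ncard_inter (Y : Set G) 𝐂[V]
  have h5 := Grp.card_mul_relIndex_of_le h.YS
  have h6 := Grp.card_mul_relIndex_of_le h.R_le
  have h7 := Grp.card_inf_mul_relIndex Y 𝐂[V]
  rw [h.basic.2.2.2.2.2.2.1, hS] at h5
  rw [← h.S_eq, h.ca.idx_HM, h.S_eq, hS] at h6
  rw [h.ca.idx_Y] at h7
  rw [h.oct.card, hS] at h2
  rw [← Nat.card_coe_set_eq (S : Set G)] at h3
  rw [← Nat.card_coe_set_eq (Y : Set G), ← Nat.card_coe_set_eq (𝐂[V] : Set G),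
    ← Nat.card_coe_set_eq (_ ∩ _)] at h4
  change _ + _ = Nat.card S at h3
  change _ + Nat.card ↥(Y ⊓ 𝐂[V]) = Nat.card Y + Nat.card 𝐂[V] at h4
  rw [show S.index = 8775 by omega, show Set.ncard (S \ (Y ∪ 𝐂[V]) : Set G) = 768 by omega] at h1
  exact h1

theorem exp16 (x : G) (k : ℕ) (hx : x ^ 2 ^ k = 1) : x ^ 2 ^ 4 = 1 := by
  obtain ⟨g, -, hg⟩ := h.syl.exists_cj_le (R := zpowers x) (IsPGroup.of_card_dvd_pow
    (Nat.card_zpowers x ▸ orderOf_dvd_of_pow_eq_one hx)) le_top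
  have h1 := sq_eq_one_of_isEA h.eaU _ (h.QU.2.1 _ (pow_four h (hg (conj_mem_cj g (mem_zpowers x)))))
  rw [← pow_add, ← pow_add, conj_pow] at h1
  simpa using h1

theorem not_cent (t x : G) (ht : orderOf t = 2) (hx : orderOf x = 13) : t ∉ 𝐂₁[x] := fun e => by
  obtain ⟨g, -, hg⟩ := h.syl.exists_cj_le (Inv.isPGroup_zpowers_of_orderOf_two ht) le_top
  have h1 : g * x * g⁻¹ * (g * t * g⁻¹) = g * t * g⁻¹ * (g * x * g⁻¹) := by
    simp [mul_assoc, ← mul_assoc t x, mem_centralizer_singleton_iff.1 e]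
  rw [← orderOf_conj' g] at ht hx
  have h2 := hg (conj_mem_cj g (mem_zpowers t))
  generalize g * t * g⁻¹ = t at h1 h2 ht
  generalize g * x * g⁻¹ = x at h1 hx
  obtain ⟨l, -, -, hl, h3 | h3⟩ := OctA.near h.oct (IsConj.refl z) (h.comm_z (h.S_le h2))
    (by rw [← pow_two, ← ht, pow_orderOf_eq_one])
  · obtain ⟨c, rfl⟩ := isConj_iff.1 (OctA.isConj_of_mem h.oct hl h3 (by rintro rfl; simp at ht))
    have h4 := orderOf_dvd_natCard _ (mem_centralizer_singleton_iff.2 h1)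
    rw [centralizer_singleton_conj, card_cj, h.cent_z.1, h.cent_z.2, hx] at h4
    omega
  · obtain ⟨c, rfl⟩ := hl
    have h4 := orderOf_dvd_natCard _ (h3.cent h.oct h1)
    rw [normalizer_cj, card_cj, h.oct.cardN, hx] at h4
    omega

theorem invols {n : ℕ} (hn : 2 ∣ n) : 11700 ≤ nsol G n := by
  obtain ⟨c, h1, h2⟩ := SetLike.not_le_iff_exists.1 fun e : ncl V H ⊓ cj(m, ncl V H) ≤ V => by
    have := card_le_of_le e
    rw [h.oct.cardD, h.oct.four] at this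
    omega
  have h3 := class_le c (n := n) (by
    obtain ⟨k, rfl⟩ := hn
    rw [pow_mul, pow_two, sq_eq_one_of_isEA h.eaU c h1.1, one_pow])
  have h4 := Grp.card_mul_relIndex_of_le (h.cent_c h1 h2)
  have h5 := card_mul_index 𝐂₁[c]
  rw [h.idx_c h1 h2, h.card_M] at h4
  rw [h.oct.card, show Nat.card 𝐂₁[c] = 1536 by omega] at h5
  omega

theorem fives {n : ℕ} (hn : 5 ∣ n) : 1024 ≤ nsol G n := by
  obtain ⟨x, hx, h5, -, -, -, h1, h2, -⟩ := h.exists_five
  have h3 : IsSyl 2 (zpowers z) 𝐂₁[x] := isSyl_of_isSyl_normalizer ⟨le_inf (h1.ge.trans inf_le_right)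
    le_normalizer, h.Y2.to_le (h.Z_le_U.trans h.U_le_Y), fun R hR _ h4 r hr => by
      have h6 : R ≤ H := fun s hs => h.cent_z.1.le (mem_centralizer_singleton_iff.2
        (mul_inv_eq_iff_eq_mul.1 ((h.mem_Z.1 (Amb.conj_mem_of_mem_normalizer (h4 hs).2
          (mem_zpowers z))).resolve_left (by simpa using h.z_ne))))
      obtain ⟨g, hg, h7⟩ := (h.syl.mono h.S_le le_top).exists_cj_le hR h6
      have h8 := h7 (conj_mem_cj g hr)
      have h9 : g * r * g⁻¹ ∈ Y := by_contra fun e => by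
        have := orderOf_dvd_natCard _ (mem_S h (g := g * x * g⁻¹) h8 e
          (mul_mem (mul_mem hg (h.F_le hx)) (inv_mem hg)) (by
            simpa [mul_assoc, ← mul_assoc r x, mem_centralizer_singleton_iff.1 (h4 hr).1] using h8))
        rw [orderOf_conj', h5, h.C1_eq.2.2] at this
        omega
      exact h1.le ⟨h.C1_eq.1.le (h2 ⟨(mem_normalizer_iff.1 (h.Y_norm hg) r).2 h9, (h4 hr).1⟩),
        (h4 hr).1⟩⟩
  have h4 := Grp.card_mul_relIndex_of_le h3.le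
  have h6 := card_mul_index 𝐂₁[x]
  rw [← h4, h.card_Z, h.oct.card] at h6
  refine le_trans (Nat.le_of_dvd (Nat.pos_of_ne_zero index_ne_zero_of_finite) ?_)
    (class_le x (orderOf_dvd_iff_pow_eq_one.1 (h5 ▸ hn)))
  refine (Nat.Coprime.pow_left 10 ((Nat.Prime.coprime_iff_not_dvd Nat.prime_two).2
    h3.not_dvd_relIndex)).dvd_of_dvd_mul_left ⟨8775, ?_⟩
  rw [mul_assoc] at h6
  omega

theorem fp_of_T5 [IsSimpleGroup G] : FP G := by
  intro n hn hc
  have hG := h.oct.card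
  obtain ⟨a, k, hk, rfl⟩ := Nat.exists_eq_two_pow_mul_odd (hc ▸ (nsol_pos n).ne')
  rw [hG, show 17971200 = 2 ^ 11 * 8775 by norm_num] at hn
  have h1 : k ∣ 8775 := (Nat.Coprime.pow_right 11 (Odd.coprime_two_right hk)).dvd_of_dvd_mul_left
    ((Dvd.intro_left _ rfl).trans hn)
  have h2 : a ≤ 11 := (Nat.pow_dvd_pow_iff_le_right one_lt_two).1
    ((Nat.Coprime.pow_left a (by norm_num)).dvd_of_dvd_mul_right ((Dvd.intro _ rfl).trans hn))
  have h3 := Nat.le_of_dvd (by norm_num) h1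
  rcases h2.eq_or_lt with rfl | h2
  · have h4 := flags h (n := 2 ^ 11 * k) (Dvd.intro _ rfl)
    obtain ⟨j, hj⟩ := h1
    have h5 : j = 1 ∨ j = 2 ∨ j = 0 ∨ 3 ≤ j := by omega
    rcases h5 with rfl | rfl | rfl | h5
    · omega
    · omega
    · omega
    · nlinarith
  by_cases h4 : 4 ≤ a
  · exact (ne_of_exp Nat.prime_two (exp16 h) h4 (by
      rw [hG, show 17971200 = 2 ^ 11 * 8775 by norm_num]
      exact Nat.mul_dvd_mul (pow_dvd_pow 2 h2) h1) hc).elim
  have h5 : 2 ^ a ≤ 2 ^ 3 := Nat.pow_le_pow_right two_pos (by omega)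
  by_cases h6 : 13 ∣ k
  · have := thirteen hG (not_cent h) (h6.mul_left (2 ^ a))
    nlinarith
  have h7 : k ∣ 675 := ((Nat.Prime.coprime_iff_not_dvd (by norm_num)).2 h6).symm.dvd_of_dvd_mul_left h1
  have h8 := Nat.le_of_dvd (by norm_num) h7
  rcases a with _ | a
  · rw [pow_zero, one_mul] at hc ⊢
    by_cases h9 : 5 ∣ k
    · have := fives h h9
      omega
    have h10 : k ∣ 3 ^ 3 := (Nat.Coprime.pow_right 2 ((Nat.Prime.coprime_iff_not_dvd
      Nat.prime_five).2 h9).symm).dvd_of_dvd_mul_left h7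
    obtain ⟨i, hi, rfl⟩ := (Nat.dvd_prime_pow Nat.prime_three).1 h10
    have : Fact (Nat.Prime 3) := ⟨Nat.prime_three⟩
    obtain ⟨K, hK⟩ := Sylow.exists_subgroup_card_pow_prime (G := G) 3 (n := i)
      (h10.trans (by rw [hG]; norm_num))
    exact of_subgroup hc hK
  · have := invols h (n := 2 ^ (a + 1) * k) ((dvd_pow_self 2 a.succ_ne_zero).mul_right k)
    nlinarith

end

end Cfsg.Agent.FC
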